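import Mathlib
import Cfsg.Prelude.Def_Spor_ON
import Cfsg.Agent.H93.CosetCox
import Cfsg.Agent.H93.CosetFast

/-!
A checked coset table (generated data).
-/

set_option autoImplicit false
set_option maxRecDepth 100000
set_option linter.all false
set_option Elab.async false

namespace H93
namespace ONHB

open Coset

noncomputable section

noncomputable def tT0 : ℕ := 0x1a001b00140017001800120013001900150016000f000e00110010000a0009000b000d000c000500070006000800040003000200010000

noncomputable def tT1 : ℕ := 0x1800150016001b00130019001a00100017000e00110014000b0012000d000c000f000700060008000a0009000300040005000200010000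

noncomputable def tT2 : ℕ := 0x1a001b0019001300150011001700140018000f0016000c00120009000d00100006000a000e00080004000b000500070001000200030000

noncomputable def tT3 : ℕ := 0x190014001b0016001200180010001a000e0017000d0015000a0013001100080007000f0005000c000b0003000900020006000400000001

noncomputable def tT4 : ℕ := 0x1a001b0014001500130010001800190017000e000c0016000900120008001100060005000f000d0003000b000a00010007000000040002

noncomputable def tTsel (g : ℕ) : ℕ := bif Nat.beq g 0 then tT0 else bif Nat.beq g 1 then tT1 else bif Nat.beq g 2 then tT2 else bif Nat.beq g 3 then tT3 else tT4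

noncomputable def tT (g c : ℕ) : ℕ := Nat.land (Nat.shiftRight (tTsel g) (16 * c)) 65535

noncomputable def tM0 : ℕ := 0x34340030302e2200222e091e091e0805210805001c2000071a060401

noncomputable def tM1 : ℕ := 0xd33000c330d000c0029002300282723100b26100b000f000e0a02

noncomputable def tM2 : ℕ := 0x353531002c132c2b002a13002a001d000018001f1200171200110003

noncomputable def tM3 : ℕ := 0x3600361b001b00000000160015001600191500001900001400140000

noncomputable def tM4 : ℕ := 0x323237252f0025372f2d0000002d0000240000000024000000000000

noncomputable def tMsel (g : ℕ) : ℕ := bif Nat.beq g 0 then tM0 else bif Nat.beq g 1 then tM1 else bif Nat.beq g 2 then tM2 else bif Nat.beq g 3 then tM3 else tM4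

noncomputable def tM (g c : ℕ) : ℕ := Nat.land (Nat.shiftRight (tMsel g) (8 * c)) 255

noncomputable def tJ0 : ℕ := 0x1303070000000000001709230000000000000000000e010a12092300000000000009010c0e092300000000000007010a05010c05010a00000007092203010a00000001010c03092200010c00010a000024

noncomputable def tJ1 : ℕ := 0xe02061001120000000e01120000000b0206000000000000000000070206060206070112000000000000030206030114030112000000010114000000000114000112000026

noncomputable def tJ2 : ℕ := 0x1302111402080000000000000000000804220c02100000000000000c011a00000006021000000009062200000000000004021000000005020800000000000001021001011a00000000011a000000000028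

noncomputable def tJ3 : ℕ := 0x14020b00000000000005052300000000000000000000000000000000000000000000000008011e00000000000005011e00000000000000052300000000000000000000000000011e000000000000

noncomputable def tJ4 : ℕ := 0x15021500000000000000000000000010021f100215150823000000000000000000000000100823000000000000000000000000000000000000000000060014000000000000000000000000000000000000

noncomputable def tJsel (g : ℕ) : ℕ := bif Nat.beq g 0 then tJ0 else bif Nat.beq g 1 then tJ1 else bif Nat.beq g 2 then tJ2 else bif Nat.beq g 3 then tJ3 else tJ4

noncomputable def tJ (g c : ℕ) : ℕ := Nat.land (Nat.shiftRight (tJsel g) (24 * c)) 16777215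

noncomputable def tPA0 : ℕ := 0x6010503050004c2048304040403040103830381030403020244024202040203018201440143014000c400c300c100440042000400030000
noncomputable def tPA (c : ℕ) : ℕ := Nat.land (Nat.shiftRight tPA0 (16 * c)) 65535

def words : List (List ℕ) := [
  [0,0],
  [1,0,1,0,1,0],
  [2,0,2,0],
  [3,0,3,0],
  [4,0,4,0],
  [1,1],
  [2,1,2,1,2,1],
  [3,1,3,1],
  [4,1,4,1],
  [2,2],
  [3,2,3,2,3,2,3,2,3,2,3,2,3,2,3,2],
  [4,2,4,2],
  [3,3],
  [4,3,4,3],
  [4,4],
  [2,3,2,3,2,3,2,3,4,0],
  [0],
  [1],
  [2]]

def data : Data := ⟨28, 5, tT, tM, tJ, tPA, words, 16, []⟩


end

end ONHB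
end H93
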